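import Cfsg.Agent.H555.Tri.Gen
import Cfsg.Agent.H443.NHHN.Row

/-!
# `TriH` for `HN` (helper555, S4335)
-/

set_option autoImplicit false

namespace Cfsg.Agent.H555.Tri.HN

open Cfsg Cfsg.Agent.H241.NH

universe u

/-- **`TriH` for `HN`** -/
theorem triH_hn {G : Type u} [Group G] [Finite G] (h : Spor.IsoHN G) : TriH G := by
  have hN := NotCT.Orders.hn h
  refine triH_of 273030912000000 14 hN [3, 5, 7, 11, 19] [3, 5] [] ?_ ?_ ?_ ?_ ?_
  · decide
  · norm_num
  · obtain ⟨e⟩ := h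
    exact fun p hp q hq hpq => (Cfsg.Agent.H443.NHHN.nc_all p hp q hq hpq).congr e.symm
  · intro a ha; exact absurd ha (by simp)
  · decide

end Cfsg.Agent.H555.Tri.HN
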