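import Cfsg.Agent.H555.Tri.Gen
import Cfsg.Agent.H865.NH.Th

/-!
# `TriH` for `Th` (helper555, S4335)
-/

set_option autoImplicit false

namespace Cfsg.Agent.H555.Tri.Th

open Cfsg Cfsg.Agent.H241.NH Cfsg.Agent.H865.NH.Th

universe u

theorem triH_th' : TriH Spor.Th := by
  have := fin'
  refine triH_of 90745943887872000 15 card' [3, 5, 7, 13, 19, 31] [3, 5, 7] [] ?_ ?_ ?_ ?_ ?_
  · intro q hq
    simp only [List.mem_cons, List.not_mem_nil, or_false] at hq
    rcases hq with rfl | rfl | rfl | rfl | rfl | rfl <;> norm_num
  · norm_num
  · intro p hp q hq hpq
    simp only [List.mem_cons, List.not_mem_nil, or_false] at hp hq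
    rcases hp with rfl | rfl | rfl
    · rcases hq with rfl | rfl | rfl | rfl | rfl | rfl
      · exact absurd rfl hpq
      · exact five_three.symm
      · exact (seven (a := 10) (by norm_num) (by norm_num) (by norm_num) (by norm_num) (by norm_num)).symm
      · exact three_big (by norm_num) (by norm_num) (by norm_num) (by norm_num) (by norm_num)
      · exact three_big (by norm_num) (by norm_num) (by norm_num) (by norm_num) (by norm_num)
      · exact three_big (by norm_num) (by norm_num) (by norm_num) (by norm_num) (by norm_num)
    · rcases hq with rfl | rfl | rfl | rfl | rfl | rfl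
      · exact five_three
      · exact absurd rfl hpq
      · exact (seven (a := 3) (by norm_num) (by norm_num) (by norm_num) (by norm_num) (by norm_num)).symm
      · exact five_big (by norm_num) (by norm_num) (by norm_num) (by norm_num) (by norm_num)
      · exact five_big (by norm_num) (by norm_num) (by norm_num) (by norm_num) (by norm_num)
      · exact five_big (by norm_num) (by norm_num) (by norm_num) (by norm_num) (by norm_num)
    · rcases hq with rfl | rfl | rfl | rfl | rfl | rfl
      · exact seven (a := 10) (by norm_num) (by norm_num) (by norm_num) (by norm_num) (by norm_num)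
      · exact seven (a := 3) (by norm_num) (by norm_num) (by norm_num) (by norm_num) (by norm_num)
      · exact absurd rfl hpq
      · exact seven (a := 1) (by norm_num) (by norm_num) (by norm_num) (by norm_num) (by norm_num)
      · exact seven (a := 1) (by norm_num) (by norm_num) (by norm_num) (by norm_num) (by norm_num)
      · exact seven (a := 1) (by norm_num) (by norm_num) (by norm_num) (by norm_num) (by norm_num)
  · intro a ha
    exact absurd ha (by simp)
  · decide

/-- **`TriH` for `Th`** -/
theorem triH_th {G : Type u} [Group G] (h : Spor.IsoTh G) : TriH G := by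
  obtain ⟨e⟩ := h
  exact triH_th'.congr e.symm

end Cfsg.Agent.H555.Tri.Th
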